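import Groth.Agent.Sga7.H744.Defs
import Groth.Agent.Sga1.StrictReg
import Groth.Agent.CycB.LocQuot
import Groth.Agent.Ega4A.RegDer
import Groth.Agent.CurvesC.RegNormal
import Mathlib.AlgebraicGeometry.Noetherian
import Mathlib.AlgebraicGeometry.Morphisms.Proper

/-!
# Multiplicities of the components of a strict normal crossings closed fibre

For `p : X ⟶ Spec R` over a discrete valuation ring, `X` regular and Noetherian, with SNC closed fibre, the
exponents in the SNC form of a uniformizer are the multiplicities of the irreducible components of the closed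
fibre; in particular they all divide one positive integer.
-/

set_option autoImplicit false
universe u

open CategoryTheory CategoryTheory.Limits AlgebraicGeometry IsLocalRing

namespace Groth.Agent.Sga7.H583.SncMult

open Groth.Agent.Sga7.H744.Defs Groth.Agent.CycB.LocQuot

section Alg

variable {A : Type u} [CommRing A] [IsRegularLocalRing A] {r : ℕ} (f : Fin r → A)
  (hm : ∀ i, f i ∈ maximalIdeal A)
  (hf : LinearIndependent (ResidueField A) (fun i => (maximalIdeal A).toCotangent ⟨f i, hm i⟩))

include hf in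
theorem isPrime_span (i : Fin r) : (Ideal.span {f i}).IsPrime := by
  have h2 : f i ∉ maximalIdeal A ^ 2 := by
    intro h
    exact hf.ne_zero i (((maximalIdeal A).toCotangent_eq_zero ⟨f i, hm i⟩).2 h)
  have := Groth.Agent.Ega4A.RegDer.isRegularLocalRing_quotient_of_notMem_sq (hm i) h2
  have := Groth.Agent.CurvesC.RegNormal.isDomain (A ⧸ Ideal.span {f i})
  exact (Ideal.Quotient.isDomain_iff_prime _).1 inferInstance

include hf in
theorem ne_zero (i : Fin r) : f i ≠ 0 := by
  intro h
  exact hf.ne_zero i (((maximalIdeal A).toCotangent_eq_zero ⟨f i, hm i⟩).2 (by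
    change f i ∈ _
    rw [h]; exact zero_mem _))

include hf in
theorem notMem_span {i j : Fin r} (hij : j ≠ i) : f j ∉ Ideal.span {f i} := by
  intro h
  obtain ⟨c, hc⟩ := Ideal.mem_span_singleton'.1 h
  refine hf.notMem_span_image (s := {i}) (x := j) (by simpa using hij) ?_
  rw [Set.image_singleton]
  have h1 : (⟨f j, hm j⟩ : maximalIdeal A) = c • ⟨f i, hm i⟩ := by
    apply Subtype.ext
    exact hc.symm
  rw [h1, map_smul, ← algebraMap_smul (ResidueField A) c]
  exact Submodule.smul_mem _ _ (Submodule.mem_span_singleton_self _)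

end Alg

/-- `t` is a unit times the `e`-th power of a (nonzero) generator of the maximal ideal. -/
def HasMult (O : Type u) [CommRing O] [IsLocalRing O] (t : O) (e : ℕ) : Prop :=
  ∃ (g : O) (u : Oˣ), g ≠ 0 ∧ maximalIdeal O = Ideal.span {g} ∧ t = u * g ^ e

theorem HasMult.unique_aux {O : Type u} [CommRing O] [IsLocalRing O] [IsDomain O] {t : O} {e e' : ℕ}
    (h : HasMult O t e) (h' : HasMult O t e') (hlt : e < e') : False := by
  obtain ⟨g, u, hg, hmax, ht⟩ := h
  obtain ⟨g', u', hg', hmax', ht'⟩ := h'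
  obtain ⟨w, hw⟩ := (Ideal.span_singleton_eq_span_singleton.1 (hmax.symm.trans hmax') :
    Associated g g')
  obtain ⟨k, rfl⟩ := Nat.exists_eq_add_of_lt hlt
  have h1 : (u : O) * g ^ e = u' * (g * w) ^ (e + k + 1) := by rw [← ht, ht', hw]
  have h2 : g ^ e * u = g ^ e * (u' * (w : O) ^ (e + k + 1) * g ^ k * g) := by
    rw [mul_comm, h1]; ring
  have h3 := mul_left_cancel₀ (pow_ne_zero e hg) h2
  have h4 : IsUnit g := by
    have : IsUnit ((u' : O) * (w : O) ^ (e + k + 1) * g ^ k * g) := by rw [← h3]; exact u.isUnit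
    exact isUnit_of_mul_isUnit_right this
  have h5 : g ∈ maximalIdeal O := by rw [hmax]; exact Ideal.mem_span_singleton_self _
  exact (mem_maximalIdeal g).1 h5 h4

theorem HasMult.unique {O : Type u} [CommRing O] [IsLocalRing O] [IsDomain O] {t : O} {e e' : ℕ}
    (h : HasMult O t e) (h' : HasMult O t e') : e = e' := by
  rcases lt_trichotomy e e' with hlt | rfl | hlt
  · exact (HasMult.unique_aux h h' hlt).elim
  · rfl
  · exact (HasMult.unique_aux h' h hlt).elim

/-- The multiplicity at the generic point of a branch is the exponent. -/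
theorem hasMult_localization {A : Type u} [CommRing A] [IsRegularLocalRing A] {r : ℕ} (f : Fin r → A)
    (hm : ∀ i, f i ∈ maximalIdeal A)
    (hf : LinearIndependent (ResidueField A) (fun i => (maximalIdeal A).toCotangent ⟨f i, hm i⟩))
    (i : Fin r) (P : Ideal A) [P.IsPrime] (hP : P = Ideal.span {f i})
    (B : Type u) [CommRing B] [IsLocalRing B] [Algebra A B] [IsLocalization.AtPrime B P]
    (u : Aˣ) (a : Fin r → ℕ) (t : A) (ht : t = u * ∏ j, f j ^ a j) :
    HasMult B (algebraMap A B t) (a i) := by
  classical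
  subst hP
  have hdom := Groth.Agent.CurvesC.RegNormal.isDomain A
  have hunit : IsUnit (algebraMap A B (∏ j ∈ Finset.univ.erase i, f j ^ a j)) := by
    rw [map_prod]
    refine (IsUnit.prod_iff (M := B)).2 fun j hj => ?_
    rw [map_pow]
    exact (IsLocalization.map_units B (⟨f j, notMem_span f hm hf (Finset.ne_of_mem_erase hj)⟩ :
      (Ideal.span {f i}).primeCompl)).pow _
  refine ⟨algebraMap A B (f i), Units.map (algebraMap A B).toMonoidHom u * hunit.unit, ?_, ?_, ?_⟩
  · intro h
    have hinj : Function.Injective (algebraMap A B) :=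
      IsLocalization.injective B (Ideal.primeCompl_le_nonZeroDivisors (Ideal.span {f i}))
    exact ne_zero f hm hf i (hinj (by rw [h, map_zero]))
  · have h1 := IsLocalization.AtPrime.map_eq_maximalIdeal (Ideal.span {f i}) B
    rw [Ideal.map_span, Set.image_singleton] at h1
    exact h1.symm
  · rw [ht, ← Finset.mul_prod_erase Finset.univ (fun j => f j ^ a j) (Finset.mem_univ i)]
    simp only [map_mul, map_pow, Units.val_mul, Units.coe_map, IsUnit.unit_spec]
    change _ = algebraMap A B (u : A) * _ * _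
    ring

section Geom

variable {R : Type u} [CommRing R] {X : Scheme.{u}} (p : X ⟶ Spec (CommRingCat.of R))

theorem fromSpecStalk_comp (y : X) :
    X.fromSpecStalk y ≫ p = Spec.map (CommRingCat.ofHom (stalkElt p y)) := by
  have h1 : (CommRingCat.ofHom (stalkElt p y)) = (Scheme.ΓSpecIso (CommRingCat.of R)).inv ≫ p.appTop ≫
      X.presheaf.germ ⊤ y trivial := rfl
  rw [h1, Spec.map_comp, Spec.map_comp]
  have h2 : X.fromSpecStalk y ≫ X.toSpecΓ = Spec.map (X.presheaf.germ ⊤ y trivial) := by
    exact Scheme.fromSpecStalk_toSpecΓ X y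
  rw [← h2, Category.assoc, Category.assoc, ← Category.assoc X.toSpecΓ, ← Scheme.toSpecΓ_naturality]
  simp

theorem apply_eq (y : X) : p y = PrimeSpectrum.comap (stalkElt p y) (closedPoint (X.presheaf.stalk y)) := by
  have h1 := congrArg (fun q => q (closedPoint (X.presheaf.stalk y))) (fromSpecStalk_comp p y)
  have h2 : (X.fromSpecStalk y ≫ p) (closedPoint (X.presheaf.stalk y)) = p y := by
    rw [Scheme.Hom.comp_apply, Scheme.fromSpecStalk_closedPoint]
  rw [← h2]
  exact h1

theorem stalkElt_specializes {x η : X} (h : η ⤳ x) (a : R) :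
    (X.presheaf.stalkSpecializes h).hom (stalkElt p x a) = stalkElt p η a := by
  change ((X.presheaf.germ ⊤ x trivial) ≫ (X.presheaf.stalkSpecializes h)).hom _ = _
  rw [TopCat.Presheaf.germ_stalkSpecializes]
  rfl

variable [IsDomain R] [IsDiscreteValuationRing R] {ϖ : R} (hϖ : Irreducible ϖ)

include hϖ in
theorem apply_eq_closedPoint_iff (y : X) :
    p y = closedPoint R ↔ stalkElt p y ϖ ∈ maximalIdeal (X.presheaf.stalk y) := by
  rw [apply_eq]
  constructor
  · intro h
    have h1 : ϖ ∈ (closedPoint R).asIdeal := by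
      change ϖ ∈ maximalIdeal R
      exact (mem_maximalIdeal _).2 hϖ.not_isUnit
    rw [← h] at h1
    exact h1
  · intro h
    apply PrimeSpectrum.ext
    symm
    refine (maximalIdeal.isMaximal R).eq_of_le ?_ ?_
    · exact (PrimeSpectrum.isPrime _).ne_top
    · rw [hϖ.maximalIdeal_eq, Ideal.span_singleton_le_iff_mem]
      exact h

/-- The maximal points of the closed fibre. -/
def maxPts : Set X := {η | p η = closedPoint R ∧ ∀ η' : X, η' ⤳ η → p η' = closedPoint R → η' = η}

theorem finite_maxPts [TopologicalSpace.NoetherianSpace X] : (maxPts p).Finite := by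
  have hcl : IsClosed {y : X | p y = closedPoint R} :=
    (isClosed_singleton_closedPoint R).preimage p.continuous
  obtain ⟨S, hSf, hSc, hSi, hS⟩ :=
    TopologicalSpace.NoetherianSpace.exists_finite_set_isClosed_irreducible hcl
  have hsub : maxPts p ⊆ {η | closure {η} ∈ S} := by
    rintro η ⟨h1, h2⟩
    have h3 : η ∈ ⋃₀ S := by rw [← hS]; exact h1
    obtain ⟨Z, hZ, hηZ⟩ := h3
    have hgen := (hSi Z hZ).isGenericPoint_genericPoint_closure
    rw [(hSc Z hZ).closure_eq] at hgen
    have h4 : (hSi Z hZ).genericPoint ⤳ η := hgen.specializes hηZ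
    have h5 : (hSi Z hZ).genericPoint ∈ ⋃₀ S := ⟨Z, hZ, hgen.mem⟩
    rw [← hS] at h5
    have h6 := h2 _ h4 h5
    rw [h6] at hgen
    change closure {η} ∈ S
    rw [hgen.def]
    exact hZ
  refine (Set.Finite.of_injOn (f := fun η : X => closure {η}) (t := S) hsub ?_ hSf)
  intro a _ b _ hab
  exact (Specializes.antisymm (by rw [specializes_iff_closure_subset]; exact hab.ge)
    (by rw [specializes_iff_closure_subset]; exact hab.le)).eq

/-- The branch `(f_i)` at a point of the closed fibre is a maximal point of the closed fibre, with multiplicity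
the exponent `a_i`. -/
theorem branch (x : X) [IsRegularLocalRing (X.presheaf.stalk x)] {r : ℕ} (f : Fin r → X.presheaf.stalk x)
    (hm : ∀ i, f i ∈ maximalIdeal (X.presheaf.stalk x))
    (hf : LinearIndependent (ResidueField (X.presheaf.stalk x))
      (fun i => (maximalIdeal (X.presheaf.stalk x)).toCotangent ⟨f i, hm i⟩))
    (a : Fin r → ℕ) (ha : ∀ i, 1 ≤ a i) (u : (X.presheaf.stalk x)ˣ)
    (ht : stalkElt p x ϖ = u * ∏ i, f i ^ a i) (i : Fin r) (hϖ : Irreducible ϖ) :
    ∃ η ∈ maxPts p, HasMult (X.presheaf.stalk η) (stalkElt p η ϖ) (a i) := by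
  classical
  have hprime := isPrime_span f hm hf i
  let q : PrimeSpectrum (X.presheaf.stalk x) := ⟨Ideal.span {f i}, hprime⟩
  have hsp := ptOf_specializes q
  let _ := (X.presheaf.stalkSpecializes hsp).hom.toAlgebra
  have hloc := isLocalization_stalkSpecializes hsp
  have hP : RingHom.ker (Cyc.specMap x (ptOf q) hsp) = Ideal.span {f i} := by
    rw [← primeOf_asIdeal, primeOf_ptOf]
  have hmult := hasMult_localization f hm hf i _ hP (X.presheaf.stalk (ptOf q)) u a _ ht
  have h1 : algebraMap (X.presheaf.stalk x) (X.presheaf.stalk (ptOf q)) (stalkElt p x ϖ) =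
      stalkElt p (ptOf q) ϖ := stalkElt_specializes p hsp ϖ
  rw [h1] at hmult
  refine ⟨ptOf q, ⟨?_, ?_⟩, hmult⟩
  · rw [apply_eq_closedPoint_iff p hϖ]
    obtain ⟨g, w, -, hg, hgw⟩ := hmult
    rw [hgw, hg]
    refine Ideal.mul_mem_left _ _ (Ideal.pow_mem_of_mem _ (Ideal.mem_span_singleton_self _) _ (ha i))
  · intro η' hη' hs
    have hη'x : η' ⤳ x := hη'.trans hsp
    have hle : primeOf hη'x ≤ q := by
      rw [← primeOf_ptOf q, primeOf_le_iff]
      exact hη'
    have hge : q ≤ primeOf hη'x := by
      have hmem : stalkElt p x ϖ ∈ (primeOf hη'x).asIdeal := by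
        rw [apply_eq_closedPoint_iff p hϖ, ← stalkElt_specializes p hη'x] at hs
        exact hs
      rw [ht] at hmem
      have h2 := ((primeOf hη'x).2.mem_or_mem hmem).resolve_left (fun h =>
        (primeOf hη'x).2.ne_top (Ideal.eq_top_of_isUnit_mem _ h u.isUnit))
      rw [Ideal.IsPrime.prod_mem_iff] at h2
      obtain ⟨j, -, hj⟩ := h2
      have hj' : f j ∈ (primeOf hη'x).asIdeal := (primeOf hη'x).2.mem_of_pow_mem _ hj
      have hji : j = i := by
        by_contra hne
        exact notMem_span f hm hf hne (hle hj')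
      subst hji
      change Ideal.span {f j} ≤ (primeOf hη'x).asIdeal
      rw [Ideal.span_singleton_le_iff_mem]
      exact hj'
    have heq : primeOf hη'x = q := le_antisymm hle hge
    rw [← heq, ptOf_primeOf]

include hϖ in
/-- One positive integer divisible by all exponents. -/
theorem exists_dvd [TopologicalSpace.NoetherianSpace X]
    (hreg : ∀ x : X, IsRegularLocalRing (X.presheaf.stalk x)) :
    ∃ N : ℕ, 0 < N ∧ ∀ (x : X) (r : ℕ) (f : Fin r → X.presheaf.stalk x)
      (hm : ∀ i, f i ∈ maximalIdeal (X.presheaf.stalk x))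
      (_ : LinearIndependent (ResidueField (X.presheaf.stalk x))
        (fun i => (maximalIdeal (X.presheaf.stalk x)).toCotangent ⟨f i, hm i⟩))
      (a : Fin r → ℕ) (_ : ∀ i, 1 ≤ a i) (u : (X.presheaf.stalk x)ˣ)
      (_ : stalkElt p x ϖ = u * ∏ i, f i ^ a i) (i : Fin r), a i ∣ N := by
  classical
  let m : X → ℕ := fun η => if h : ∃ e, 1 ≤ e ∧ HasMult (X.presheaf.stalk η) (stalkElt p η ϖ) e
    then h.choose else 1
  have hm1 : ∀ η, 1 ≤ m η := fun η => by
    by_cases h : ∃ e, 1 ≤ e ∧ HasMult (X.presheaf.stalk η) (stalkElt p η ϖ) e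
    · simp only [m, dif_pos h]
      exact h.choose_spec.1
    · simp only [m, dif_neg h]
      exact le_rfl
  refine ⟨∏ η ∈ (finite_maxPts p).toFinset, m η, Finset.prod_pos fun η _ => hm1 η, ?_⟩
  intro x r f hm hf a ha u ht i
  have := hreg x
  obtain ⟨η, hη, hmult⟩ := branch p x f hm hf a ha u ht i hϖ
  have := hreg η
  have hdom := Groth.Agent.CurvesC.RegNormal.isDomain (X.presheaf.stalk η)
  have h : ∃ e, 1 ≤ e ∧ HasMult (X.presheaf.stalk η) (stalkElt p η ϖ) e := ⟨a i, ha i, hmult⟩
  have h1 : m η = a i := by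
    simp only [m, dif_pos h]
    exact HasMult.unique h.choose_spec.2 hmult
  rw [← h1]
  exact Finset.dvd_prod_of_mem _ ((Set.Finite.mem_toFinset _).2 hη)

end Geom

end Groth.Agent.Sga7.H583.SncMult
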