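import Groth.Agent.Sga7.H744.CohConst
import Groth.Agent.Sga7.H744.Defs
import Groth.Agent.EtpbcB.StrictLoc
import Groth.Agent.EtpbcB.OshHens
import Groth.Agent.Sga7.H583.SncMult
import Groth.Prelude.Def_Curve
import Mathlib.RingTheory.RegularLocalRing.Defs
import Mathlib.FieldTheory.IntermediateField.Adjoin.Basic

/-!
# Strict localizations of an SNC model (H744-OSH)
-/

set_option autoImplicit false
universe u
open CategoryTheory CategoryTheory.Limits AlgebraicGeometry IsLocalRing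

namespace Groth.Agent.Sga7.H583.Osh
open Groth.Agent.Sga7.H744.CohConst Groth.Agent.Sga7.H744.Defs
open Groth.Agent.EtpbcB.StrictLoc

/-- (OSH) the strict localizations of an SNC model at geometric points of the closed fibre:
exactly the hypotheses of `loc`, with exponents dividing a fixed `N`. -/
theorem exists_osh (R : Type u) [CommRing R] [IsDomain R] [IsDiscreteValuationRing R] (C : Scheme.{u})
    (f : C ⟶ Spec (CommRingCat.of (FractionRing R))) (_hC : Curve.IsSmoothProperCurve (FractionRing R) C f)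
    (X : Scheme.{u}) (p : X ⟶ Spec (CommRingCat.of R)) (hX : Models.IsRegularProperModel R X p C f)
    (hsnc : IsSNCModel p) (ϖ : R) (hϖ : Irreducible ϖ) :
    ∃ N : ℕ, 0 < N ∧ ∀ (Ω : Type u) [Field Ω] [IsSepClosed Ω] (ξ : Spec (CommRingCat.of Ω) ⟶ X),
      p (ξ default) = closedPoint R →
      IsRegularLocalRing (Osh ξ) ∧ IsDomain (Osh ξ) ∧
      ∃ (φ : R →+* Osh ξ) (_ : IsLocalHom φ) (_ : toBase ξ ≫ p = Spec.map (CommRingCat.ofHom φ))
        (r : ℕ) (_ : 0 < r) (t : Fin r → Osh ξ) (hm : ∀ i, t i ∈ maximalIdeal (Osh ξ))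
        (_ : LinearIndependent (ResidueField (Osh ξ)) (fun i => (maximalIdeal (Osh ξ)).toCotangent ⟨t i, hm i⟩))
        (a : Fin r → ℕ) (_ : ∀ i, 1 ≤ a i) (v : (Osh ξ)ˣ), φ ϖ = v * ∏ i, t i ^ a i ∧ ∀ i, a i ∣ N := by
  obtain ⟨-, hprop, hreg⟩ := hX
  have hNoeth : IsNoetherian X := by
    have : IsLocallyNoetherian X := LocallyOfFiniteType.isLocallyNoetherian p
    have : CompactSpace X := QuasiCompact.compactSpace_of_compactSpace p
    exact {}
  obtain ⟨N, hN, hdvd⟩ := SncMult.exists_dvd p hϖ (fun x => hreg x)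
  refine ⟨N, hN, fun Ω _ _ ξ hξ => ?_⟩
  obtain ⟨hAlg, hLoc, hHens, hspec⟩ := Groth.Agent.EtpbcB.OshHens.exists_isStrictHenselization ξ
    (ξ default) rfl
  have hregx := hreg (ξ default)
  have h1 := Groth.Agent.S0538.result (X.presheaf.stalk (ξ default)) (Osh ξ)
  have h3 : IsNoetherianRing (Osh ξ) :=
    (Groth.Agent.S0540.result (X.presheaf.stalk (ξ default)) (Osh ξ)).1 inferInstance
  have h4 := Groth.Agent.S0541.result (X.presheaf.stalk (ξ default)) (Osh ξ)
  have h5 : IsRegularLocalRing (Osh ξ) :=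
    (Groth.Agent.S2743.result (X.presheaf.stalk (ξ default)) (Osh ξ)).2 inferInstance
  have h6 := Groth.Agent.CurvesC.RegNormal.isDomain (Osh ξ)
  obtain ⟨r, g, hg, a, u, ha, hli, ht⟩ := hsnc (ξ default) hξ ϖ hϖ
  let φ : R →+* Osh ξ := (algebraMap (X.presheaf.stalk (ξ default)) (Osh ξ)).comp (stalkElt p (ξ default))
  have hφ : toBase ξ ≫ p = Spec.map (CommRingCat.ofHom φ) := by
    rw [← hspec, Category.assoc, SncMult.fromSpecStalk_comp, ← Spec.map_comp]
    rfl
  have hloc : IsLocalHom φ := by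
    rw [isLocalHom_iff_comap_closedPoint]
    have h7 := congrArg (fun q => q (closedPoint (Osh ξ))) hφ
    have h8 : (toBase ξ ≫ p) (closedPoint (Osh ξ)) = closedPoint R := by
      rw [← hξ, Scheme.Hom.comp_apply, ← pt_default]
      congr 1
      rw [← Scheme.Hom.comp_apply, pt_toBase]
    rw [← h8]
    exact h7.symm
  have hm' : ∀ i, algebraMap (X.presheaf.stalk (ξ default)) (Osh ξ) (g i) ∈ maximalIdeal (Osh ξ) := fun i => by
    rw [← h1]; exact Ideal.mem_map_of_mem _ (hg i)
  have hval : φ ϖ = (Units.map (algebraMap (X.presheaf.stalk (ξ default)) (Osh ξ)).toMonoidHom u : (Osh ξ)ˣ) *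
      ∏ i, algebraMap (X.presheaf.stalk (ξ default)) (Osh ξ) (g i) ^ a i := by
    change algebraMap (X.presheaf.stalk (ξ default)) (Osh ξ) (stalkElt p (ξ default) ϖ) = _
    rw [ht, map_mul, map_prod]
    simp only [map_pow]
    rfl
  refine ⟨h5, h6, φ, hloc, hφ, r, ?_, fun i => algebraMap _ (Osh ξ) (g i), hm',
    Groth.Agent.Sga1.StrictReg.linearIndependent_map h1 h4 g hg hli hm', a, ha, _, hval,
    hdvd (ξ default) r g hg hli a ha u ht⟩
  rcases Nat.eq_zero_or_pos r with h0 | h0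
  · exfalso
    subst h0
    have h9 : IsUnit (φ ϖ) := by
      rw [hval]
      simp
    exact hϖ.not_isUnit ((isUnit_map_iff φ ϖ).1 h9)
  · exact h0

end Groth.Agent.Sga7.H583.Osh
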